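import Mathlib
import Cfsg.Agent.Lib.Helper1.GNPC.Spec

set_option autoImplicit false

namespace Cfsg.Agent.Lib.Helper1.GNPC

open Cfsg Cfsg.Agent.S5306 Cfsg.Agent.Lib.Helper1.TNPC

open scoped Pointwise

universe u

structure MinCexS {p : ℕ} (S : HypSpec.{u} p) (G : Type u) [Group G] [Finite G] (P : Sylow p G)
    (H : Subgroup G) : Prop where
  ih : IHypS S G
  cex : ¬ HasNormalPComplement p G
  hyp : S.Hy G (P : Subgroup G)
  hHP : H ≤ (P : Subgroup G)
  hHne : H ≠ ⊥
  claimC : ∀ X : Subgroup G, IsPGroup p X →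
    (P : Subgroup G) ≤ Subgroup.normalizer (X : Set G) → Nat.card H < Nat.card X →
    HasNormalPComplement p ↥(Subgroup.normalizer (X : Set G))

section Final1

variable {G : Type u} [Group G] [Finite G] {p : ℕ} [hp : Fact p.Prime] {S : HypSpec.{u} p}
  {P : Sylow p G} {H : Subgroup G} [hHn : H.Normal]

theorem MinCexS.opp (c : MinCexS S G P H) (T : Subgroup G) [T.Normal]
    (hT : (Nat.card T).Coprime p) : T = ⊥ :=
  quot_stepS S c.ih c.cex P c.hyp T hT

theorem MinCexS.hHp (c : MinCexS S G P H) : IsPGroup p H := P.isPGroup'.to_le c.hHP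

theorem MinCexS.normal_pgroup_le (c : MinCexS S G P H) (X : Subgroup G) [X.Normal]
    (hX : IsPGroup p X) : X ≤ H := by
  by_contra hXH
  have hYp : IsPGroup p (X ⊔ H : Subgroup G) := hX.to_sup_of_normal_right c.hHp
  have hlt : H < X ⊔ H := by
    refine lt_of_le_of_ne le_sup_right ?_
    intro heq
    apply hXH
    rw [heq]
    exact le_sup_left
  have hN : Subgroup.normalizer ((X ⊔ H : Subgroup G) : Set G) = ⊤ :=
    Subgroup.normalizer_eq_top_iff.mpr inferInstance
  have h1 := c.claimC (X ⊔ H) hYp (by rw [hN]; exact le_top) (card_lt_of_lt' hlt)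
  exact c.cex (npc_of_eq_top hN h1)

theorem MinCexS.H_ne_P (c : MinCexS S G P H) : H ≠ (P : Subgroup G) := by
  intro h
  have h1 : (P : Subgroup G).Normal := by
    rw [← h]
    exact hHn
  exact c.cex (S.top (P : Subgroup G) h1 c.hyp)

theorem MinCexS.map_ne_bot (c : MinCexS S G P H) :
    (P : Subgroup G).map (QuotientGroup.mk' H) ≠ ⊥ := by
  intro h
  apply c.H_ne_P
  apply le_antisymm c.hHP
  intro x hx
  have : QuotientGroup.mk' H x ∈ (P : Subgroup G).map (QuotientGroup.mk' H) := ⟨x, hx, rfl⟩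
  rw [h, Subgroup.mem_bot] at this
  exact (QuotientGroup.eq_one_iff x).mp this

theorem MinCexS.lift_npc (c : MinCexS S G P H) (Xb : Subgroup (G ⧸ H))
    (hXP : Xb ≤ (P : Subgroup G).map (QuotientGroup.mk' H)) (hXne : Xb ≠ ⊥)
    (hPX : (P : Subgroup G).map (QuotientGroup.mk' H) ≤ Subgroup.normalizer (Xb : Set (G ⧸ H))) :
    HasNormalPComplement p ↥(Subgroup.normalizer (Xb : Set (G ⧸ H))) := by
  have hsurj := QuotientGroup.mk'_surjective H
  set X := Xb.comap (QuotientGroup.mk' H) with hX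
  have hXmap : X.map (QuotientGroup.mk' H) = Xb := Subgroup.map_comap_eq_self_of_surjective hsurj Xb
  have hXleP : X ≤ (P : Subgroup G) := by
    intro x hx
    obtain ⟨u, hu, hux⟩ := hXP (Subgroup.mem_comap.mp hx)
    have h1 : u⁻¹ * x ∈ H := by
      rw [← QuotientGroup.eq]
      exact hux
    have h2 : x = u * (u⁻¹ * x) := by group
    rw [h2]
    exact mul_mem hu (c.hHP h1)
  have hHX : H ≤ X := by
    intro h hh
    rw [hX, Subgroup.mem_comap]
    have : QuotientGroup.mk' H h = 1 := (QuotientGroup.eq_one_iff h).mpr hh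
    rw [this]
    exact one_mem _
  have hlt : H < X := by
    refine lt_of_le_of_ne hHX ?_
    intro heq
    apply hXne
    rw [← hXmap, ← heq, eq_bot_iff]
    rintro _ ⟨h, hh, rfl⟩
    rw [Subgroup.mem_bot]
    exact (QuotientGroup.eq_one_iff h).mpr hh
  have hNX : Subgroup.normalizer (X : Set G) =
      (Subgroup.normalizer (Xb : Set (G ⧸ H))).comap (QuotientGroup.mk' H) :=
    (Subgroup.comap_normalizer_eq_of_surjective Xb hsurj).symm
  have hPN : (P : Subgroup G) ≤ Subgroup.normalizer (X : Set G) := by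
    rw [hNX]
    intro u hu
    exact hPX ⟨u, hu, rfl⟩
  have h1 := c.claimC X (P.isPGroup'.to_le hXleP) hPN (card_lt_of_lt' hlt)
  have h2 := npc_map (QuotientGroup.mk' H) _ h1
  rw [hNX, Subgroup.map_comap_eq_self_of_surjective hsurj] at h2
  exact h2

theorem MinCexS.quot_npc (c : MinCexS S G P H) : HasNormalPComplement p (G ⧸ H) := by
  have hsurj := QuotientGroup.mk'_surjective H
  have h1 : Nat.card (G ⧸ H) < Nat.card G := by
    have e := Subgroup.card_eq_card_quotient_mul_card_subgroup H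
    have h2 : 1 < Nat.card H := (Subgroup.one_lt_card_iff_ne_bot H).mpr c.hHne
    have h3 : 0 < Nat.card (G ⧸ H) := Nat.card_pos
    rw [e]
    nlinarith
  apply c.ih _ h1 (Sylow.mapSurjective hsurj P)
  rw [Sylow.coe_mapSurjective]
  set Pb := (P : Subgroup G).map (QuotientGroup.mk' H) with hPb
  have hPbp : IsPGroup p Pb := P.isPGroup'.map _
  have hPbne : Pb ≠ ⊥ := c.map_ne_bot
  apply S.of_local Pb hPbp hPbne
  intro X hXP hXne hXN
  exact c.lift_npc X hXP hXne (Subgroup.le_normalizer.trans hXN)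

end Final1

section Final2

variable {G : Type u} [Group G] [Finite G] {p : ℕ} [hp : Fact p.Prime] {S : HypSpec.{u} p}
  {P : Sylow p G} {H : Subgroup G} [hHn : H.Normal] {Kb : Subgroup (G ⧸ H)}

theorem cent_leS (c : MinCexS S G P H) (k : KCtx p G P H Kb) :
    Subgroup.centralizer (H : Set G) ≤ H := by
  set K := Kb.comap (QuotientGroup.mk' H) with hK
  haveI hKn : K.Normal := k.normal
  have hsol : Cfsg.IsPSolvable p G := by
    refine ⟨3, ![⊥, H, K, ⊤], rfl, rfl, ?_, ?_, ?_⟩
    · rw [Fin.monotone_iff_le_succ]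
      intro i
      fin_cases i
      · show (⊥ : Subgroup G) ≤ H
        exact bot_le
      · show H ≤ K
        exact k.H_le
      · show K ≤ ⊤
        exact le_top
    · intro i
      fin_cases i
      · show (⊥ : Subgroup G).Normal
        infer_instance
      · exact hHn
      · exact hKn
      · show (⊤ : Subgroup G).Normal
        infer_instance
    · intro i
      fin_cases i
      · left
        obtain ⟨a, ha⟩ := IsPGroup.iff_card.mp c.hHp
        refine ⟨a, ?_⟩
        show (⊥ : Subgroup G).relIndex H = p ^ a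
        rw [Subgroup.relIndex_bot_left, ha]
      · right
        show (H.relIndex K).Coprime p
        rw [k.relIndex_eq]
        exact k.hcop
      · left
        obtain ⟨j, hj⟩ := k.index_eq
        refine ⟨j, ?_⟩
        show K.relIndex ⊤ = p ^ j
        rw [Subgroup.relIndex_top_right, hj]
  have hO : Cfsg.pPrimeCore p G = ⊥ := by
    unfold Cfsg.pPrimeCore
    rw [sSup_eq_bot]
    rintro N ⟨hN, hc⟩
    haveI := hN
    exact c.opp N hc
  have hcore : Cfsg.pCore p G = H := by
    apply le_antisymm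
    · exact c.normal_pgroup_le _ (Cfsg.Agent.Lib.Helper1.pCore_isPGroup p)
    · exact le_sSup ⟨hHn, c.hHp⟩
  have := Cfsg.Agent.Lib.Helper5.h5_centralizer_pCore_le hsol hO
  rw [hcore] at this
  exact this

theorem F2S (c : MinCexS S G P H) (k : KCtx p G P H Kb) (K₁ : Subgroup G) (h1 : H ≤ K₁)
    (h2 : K₁ ≤ Kb.comap (QuotientGroup.mk' H))
    (h3 : (P : Subgroup G) ≤ Subgroup.normalizer (K₁ : Set G))
    (h4 : K₁ ≠ Kb.comap (QuotientGroup.mk' H)) : K₁ = H := by
  set K := Kb.comap (QuotientGroup.mk' H) with hK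
  have hCH := cent_leS c k
  set M := K₁ ⊔ (P : Subgroup G) with hM
  have hMne : M ≠ ⊤ := by
    intro htop
    apply h4
    apply le_antisymm h2
    intro x hx
    have hxM : x ∈ ((K₁ ⊔ (P : Subgroup G) : Subgroup G) : Set G) := by
      rw [← hM, htop]
      trivial
    rw [Subgroup.coe_mul_of_right_le_normalizer_left K₁ _ h3] at hxM
    obtain ⟨k₁, hk₁, u, hu, hku⟩ := hxM
    have hku' : k₁ * u = x := hku
    have huK : u ∈ K := by
      have : u = k₁⁻¹ * x := by rw [← hku']; group
      rw [this]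
      exact mul_mem (inv_mem (h2 hk₁)) hx
    have huH : u ∈ H := k.inf_le ⟨huK, hu⟩
    rw [← hku']
    exact mul_mem hk₁ (h1 huH)
  have hPM : (P : Subgroup G) ≤ M := le_sup_right
  have hPeq : ((P.subtype hPM : Sylow p M) : Subgroup M).map M.subtype = (P : Subgroup G) := by
    rw [Sylow.coe_subtype, Subgroup.subgroupOf_map_subtype]
    exact inf_eq_left.mpr hPM
  have hnpc : HasNormalPComplement p ↥M := by
    apply sub_stepS S c.ih M hMne (P.subtype hPM)
    rw [hPeq]
    exact c.hyp
  obtain ⟨Y, hYn, hYc, j, hj⟩ := npc_iff.mp hnpc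
  haveI := hYn
  have hYbot : Y = ⊥ := coprime_normal_eq_bot c.hHp hCH (h1.trans le_sup_left) Y hYc
  rw [hYbot, Subgroup.index_bot] at hj
  have hMp : IsPGroup p M := IsPGroup.of_card hj
  have hMP : M = (P : Subgroup G) := P.is_maximal' hMp hPM
  have hK₁P : K₁ ≤ (P : Subgroup G) := by
    rw [← hMP]
    exact le_sup_left
  exact le_antisymm (fun x hx => k.inf_le ⟨h2 hx, hK₁P hx⟩) h1

theorem K_ne_HS (c : MinCexS S G P H) (k : KCtx p G P H Kb) :
    Kb.comap (QuotientGroup.mk' H) ≠ H := by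
  intro h
  apply c.cex
  apply npc_of_isPGroup
  have htop : (P : Subgroup G) = ⊤ := by
    rw [eq_top_iff]
    intro g _
    obtain ⟨x, hx, u, hu, rfl⟩ := k.decomp g
    rw [h] at hx
    exact mul_mem (c.hHP hx) hu
  have hP := P.isPGroup'
  rw [htop] at hP
  exact IsPGroup.of_equiv hP Subgroup.topEquiv

end Final2

end Cfsg.Agent.Lib.Helper1.GNPC
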