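import Mathlib
import Cfsg.Agent.Lib.Helper1.GNPC.Cex

set_option autoImplicit false

namespace Cfsg.Agent.Lib.Helper1.GNPC

open Cfsg Cfsg.Agent.S5306 Cfsg.Agent.Lib.Helper1.TNPC

open scoped Pointwise

universe u

structure FinalCfg (p : ℕ) (G : Type u) [Group G] [Finite G] (P : Sylow p G) (H : Subgroup G)
    [H.Normal] (Kb : Subgroup (G ⧸ H)) : Prop where
  k : KCtx p G P H Kb
  hHP : H ≤ (P : Subgroup G)
  hHne : H ≠ ⊥
  npl : ∀ (X : Subgroup G) [X.Normal], IsPGroup p X → X ≤ H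
  opp : ∀ (T : Subgroup G) [T.Normal], (Nat.card T).Coprime p → T = ⊥
  cent : Subgroup.centralizer (H : Set G) ≤ H
  f2 : ∀ K₁ : Subgroup G, H ≤ K₁ → K₁ ≤ Kb.comap (QuotientGroup.mk' H) →
    (P : Subgroup G) ≤ Subgroup.normalizer (K₁ : Set G) →
    K₁ ≠ Kb.comap (QuotientGroup.mk' H) → K₁ = H
  kne : Kb.comap (QuotientGroup.mk' H) ≠ H

section Cfg

variable {G : Type u} [Group G] [Finite G] {p : ℕ} [hp : Fact p.Prime]
  {P : Sylow p G} {H : Subgroup G} [hHn : H.Normal] {Kb : Subgroup (G ⧸ H)}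

theorem FinalCfg.of_minCex {S : HypSpec.{u} p} (c : MinCexS S G P H) (k : KCtx p G P H Kb) :
    FinalCfg p G P H Kb where
  k := k
  hHP := c.hHP
  hHne := c.hHne
  npl := fun X _ hX => c.normal_pgroup_le X hX
  opp := fun T _ hT => c.opp T hT
  cent := cent_leS c k
  f2 := F2S c k
  kne := K_ne_HS c k

theorem FinalCfg.hHp (c : FinalCfg p G P H Kb) : IsPGroup p H := P.isPGroup'.to_le c.hHP

theorem FinalCfg.pCore_eq (c : FinalCfg p G P H Kb) : Cfsg.pCore p G = H := by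
  apply le_antisymm
  · haveI : (Cfsg.pCore p G).Normal := Cfsg.Agent.Lib.Helper1.pCore_normal p
    exact c.npl _ (Cfsg.Agent.Lib.Helper1.pCore_isPGroup p)
  · exact le_sSup ⟨hHn, c.hHp⟩

theorem FinalCfg.Kb_sub_eq (c : FinalCfg p G P H Kb) (Xb : Subgroup (G ⧸ H))
    (hXK : Xb ≤ Kb) (hXne : Xb ≠ ⊥)
    (hPX : (P : Subgroup G).map (QuotientGroup.mk' H) ≤ Subgroup.normalizer (Xb : Set (G ⧸ H))) :
    Xb = Kb := by
  have hsurj := QuotientGroup.mk'_surjective H
  by_contra hne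
  have h1 : Xb.comap (QuotientGroup.mk' H) = H := by
    apply c.f2 (Xb.comap (QuotientGroup.mk' H))
    · intro h hh
      rw [Subgroup.mem_comap]
      have : QuotientGroup.mk' H h = 1 := (QuotientGroup.eq_one_iff h).mpr hh
      rw [this]
      exact one_mem _
    · exact Subgroup.comap_mono hXK
    · rw [← Subgroup.comap_normalizer_eq_of_surjective Xb hsurj]
      intro u hu
      exact hPX ⟨u, hu, rfl⟩
    · intro heq
      apply hne
      rw [← Subgroup.map_comap_eq_self_of_surjective hsurj Xb, heq, c.k.map_eq]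
  apply hXne
  rw [← Subgroup.map_comap_eq_self_of_surjective hsurj Xb, h1, eq_bot_iff]
  rintro _ ⟨h, hh, rfl⟩
  rw [Subgroup.mem_bot]
  exact (QuotientGroup.eq_one_iff h).mpr hh

theorem FinalCfg.Kb_comm (c : FinalCfg p G P H Kb) :
    ∀ a ∈ Kb, ∀ b ∈ Kb, a * b = b * a := by
  have k := c.k
  haveI := k.hn
  have hsurj := QuotientGroup.mk'_surjective H
  set Pb := (P : Subgroup G).map (QuotientGroup.mk' H) with hPb
  have hPbp : IsPGroup p Pb := P.isPGroup'.map _
  have hsup : Pb ⊔ Kb = ⊤ := by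
    rw [sup_comm]
    exact k.compl.sup_eq_top
  have hcop' : (Nat.card Pb).Coprime (Nat.card Kb) := by
    obtain ⟨a, ha⟩ := IsPGroup.iff_card.mp hPbp
    rw [ha]
    exact Nat.Coprime.pow_left a k.hcop.symm
  have hsolv : Group.IsSolvable Pb ∨ Group.IsSolvable Kb := by
    left
    haveI := hPbp.isNilpotent
    infer_instance
  have hKbne : Kb ≠ ⊥ := by
    intro h
    apply c.kne
    rw [h, MonoidHom.comap_bot, QuotientGroup.ker_mk']
  have hcard1 : Nat.card Kb ≠ 1 := fun h => hKbne (Subgroup.eq_bot_of_card_eq Kb h)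
  obtain ⟨q, hq, hqdvd⟩ := Nat.exists_prime_and_dvd hcard1
  haveI : Fact q.Prime := ⟨hq⟩
  obtain ⟨Q, hQ⟩ := Cfsg.Agent.Lib.Lead.exists_invariant_sylow_ext Pb Kb hsup hcop' hsolv q
  have hQeq : (Q : Subgroup Kb).map Kb.subtype = Kb := by
    apply c.Kb_sub_eq _ (Subgroup.map_subtype_le _) _ hQ
    intro h
    have h2 : (Q : Subgroup Kb) = ⊥ := by
      rw [eq_bot_iff]
      intro x hx
      have : (x : G ⧸ H) ∈ (Q : Subgroup Kb).map Kb.subtype := ⟨x, hx, rfl⟩
      rw [h, Subgroup.mem_bot] at this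
      rw [Subgroup.mem_bot]
      exact Subtype.ext this
    exact Sylow.ne_bot_of_dvd_card Q hqdvd h2
  have hKq : IsPGroup q Kb := by
    have := Q.isPGroup'.map Kb.subtype
    rw [hQeq] at this
    exact this
  haveI : Nontrivial Kb := (Subgroup.nontrivial_iff_ne_bot Kb).mpr hKbne
  haveI hZnt := hKq.center_nontrivial
  have hZeq : (Subgroup.center Kb).map Kb.subtype = Kb := by
    apply c.Kb_sub_eq _ (Subgroup.map_subtype_le _)
    · intro h
      obtain ⟨z, hz⟩ := exists_ne (1 : Subgroup.center Kb)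
      apply hz
      have : ((z : Kb) : G ⧸ H) ∈ (Subgroup.center Kb).map Kb.subtype := ⟨z, z.2, rfl⟩
      rw [h, Subgroup.mem_bot] at this
      apply Subtype.ext
      apply Subtype.ext
      exact this
    · have : ((Subgroup.center Kb).map Kb.subtype).Normal := inferInstance
      rw [Subgroup.normalizer_eq_top_iff.mpr this]
      exact le_top
  intro a ha b hb
  have ha' : a ∈ (Subgroup.center Kb).map Kb.subtype := by rw [hZeq]; exact ha
  obtain ⟨a', ha'c, rfl⟩ := ha'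
  have := Subgroup.mem_center_iff.mp ha'c ⟨b, hb⟩
  exact (congrArg Subtype.val this).symm

theorem FinalCfg.K_comm (c : FinalCfg p G P H Kb) (y z : G)
    (hy : y ∈ Kb.comap (QuotientGroup.mk' H)) (hz : z ∈ Kb.comap (QuotientGroup.mk' H)) :
    y * z * y⁻¹ * z⁻¹ ∈ H := by
  rw [← QuotientGroup.eq_one_iff]
  have h1 := c.Kb_comm _ hy _ hz
  have e : ((y * z * y⁻¹ * z⁻¹ : G) : G ⧸ H) = (QuotientGroup.mk' H y) * (QuotientGroup.mk' H z) *
      (QuotientGroup.mk' H y)⁻¹ * (QuotientGroup.mk' H z)⁻¹ := by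
    simp
  rw [e, h1]
  group

theorem FinalCfg.exists_noncentral (c : FinalCfg p G P H Kb) (a : G)
    (haP : a ∈ (P : Subgroup G)) (haH : a ∉ H) :
    ∃ x ∈ Kb.comap (QuotientGroup.mk' H), a * x * a⁻¹ * x⁻¹ ∉ H := by
  have k := c.k
  by_contra hall
  push Not at hall
  haveI := k.hn
  set X := (Subgroup.centralizer (Kb : Set (G ⧸ H))).comap (QuotientGroup.mk' H) with hX
  have hXn : X.Normal := inferInstance
  have hXmem : ∀ u : G, u ∈ X ↔ ∀ x ∈ Kb.comap (QuotientGroup.mk' H), u * x * u⁻¹ * x⁻¹ ∈ H := by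
    intro u
    rw [hX, Subgroup.mem_comap, Subgroup.mem_centralizer_iff]
    constructor
    · intro h x hx
      rw [← QuotientGroup.eq_one_iff]
      have h1 := h _ hx
      have e : ((u * x * u⁻¹ * x⁻¹ : G) : G ⧸ H) = (QuotientGroup.mk' H u) * (QuotientGroup.mk' H x) *
          (QuotientGroup.mk' H u)⁻¹ * (QuotientGroup.mk' H x)⁻¹ := by
        simp
      rw [e, ← h1]
      group
    · intro h xb hxb
      obtain ⟨x, rfl⟩ := QuotientGroup.mk'_surjective H xb
      have h1 := h x hxb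
      rw [← QuotientGroup.eq_one_iff] at h1
      have e : ((u * x * u⁻¹ * x⁻¹ : G) : G ⧸ H) = (QuotientGroup.mk' H u) * (QuotientGroup.mk' H x) *
          (QuotientGroup.mk' H u)⁻¹ * (QuotientGroup.mk' H x)⁻¹ := by
        simp
      rw [e] at h1
      have h2 := mul_inv_eq_one.mp h1
      have h3 := mul_inv_eq_iff_eq_mul.mp h2
      exact h3.symm
  have hP₁n : (X ⊓ (P : Subgroup G)).Normal := by
    constructor
    intro u hu g
    obtain ⟨x, hx, v, hv, rfl⟩ := k.decomp g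
    have hu' : v * u * v⁻¹ ∈ X ⊓ (P : Subgroup G) :=
      ⟨hXn.conj_mem u hu.1 v,
        (P : Subgroup G).mul_mem ((P : Subgroup G).mul_mem hv hu.2) ((P : Subgroup G).inv_mem hv)⟩
    have e : x * v * u * (x * v)⁻¹ = x * (v * u * v⁻¹) * x⁻¹ := by group
    rw [e]
    refine ⟨hXn.conj_mem _ hu'.1 x, ?_⟩
    have h1 : (v * u * v⁻¹) * x * (v * u * v⁻¹)⁻¹ * x⁻¹ ∈ H := (hXmem _).mp hu'.1 x hx
    have h2 : x * (v * u * v⁻¹) * x⁻¹ * (v * u * v⁻¹)⁻¹ ∈ H := by
      have := inv_mem h1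
      convert this using 1
      group
    have e2 : x * (v * u * v⁻¹) * x⁻¹ = (x * (v * u * v⁻¹) * x⁻¹ * (v * u * v⁻¹)⁻¹) * (v * u * v⁻¹) := by
      group
    rw [e2]
    exact mul_mem (c.hHP h2) hu'.2
  haveI := hP₁n
  have hle : X ⊓ (P : Subgroup G) ≤ H :=
    c.npl _ (P.isPGroup'.to_le inf_le_right)
  exact haH (hle ⟨(hXmem a).mpr hall, haP⟩)

end Cfg

section Main

variable {p : ℕ} [hp : Fact p.Prime]

theorem generic_npc_aux (S : HypSpec.{u} p)
    (final : ∀ (G : Type u) [Group G] [Finite G] (P : Sylow p G) (H : Subgroup G) [H.Normal]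
      (Kb : Subgroup (G ⧸ H)), FinalCfg p G P H Kb → S.Hy G (P : Subgroup G) →
      HasNormalPComplement p G) :
    ∀ (n : ℕ) (G : Type u) [Group G] [Finite G],
    Nat.card G = n → ∀ P : Sylow p G, S.Hy G (P : Subgroup G) → HasNormalPComplement p G := by
  intro n
  induction n using Nat.strong_induction_on with
  | _ n ih =>
    intro G _ _ hn P hyp
    by_contra hcex
    have IH : IHypS S G := by
      intro G' _ _ hlt P' h'
      exact ih (Nat.card G') (hn ▸ hlt) G' rfl P' h'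
    obtain ⟨P₁, H, hyp₁, hHn, hHP, hHne, hC⟩ := exists_coreS S IH hcex P hyp
    haveI := hHn
    have c : MinCexS S G P₁ H := ⟨IH, hcex, hyp₁, hHP, hHne, hC⟩
    obtain ⟨Kb, hKn, hKc, j, hj⟩ := npc_iff.mp c.quot_npc
    have k : KCtx p G P₁ H Kb := ⟨hKn, hKc, ⟨j, hj⟩⟩
    exact hcex (final G P₁ H Kb (FinalCfg.of_minCex c k) hyp₁)

theorem generic_npc (S : HypSpec.{u} p)
    (final : ∀ (G : Type u) [Group G] [Finite G] (P : Sylow p G) (H : Subgroup G) [H.Normal]
      (Kb : Subgroup (G ⧸ H)), FinalCfg p G P H Kb → S.Hy G (P : Subgroup G) →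
      HasNormalPComplement p G)
    {G : Type u} [Group G] [Finite G] (P : Sylow p G) (h : S.Hy G (P : Subgroup G)) :
    HasNormalPComplement p G :=
  generic_npc_aux S final (Nat.card G) G rfl P h

end Main

end Cfsg.Agent.Lib.Helper1.GNPC
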