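import Mathlib
import Cfsg.Agent.Lib.Helper1.Nilp
import Cfsg.Agent.Lib.Helper1.TNPC.Quad

set_option autoImplicit false

namespace Cfsg.Agent.Lib.Helper1.GNPC

universe u

section Aux

variable {G : Type u} [Group G]

theorem conj_pow_of_comm (y v c : G) (hc : y * v * y⁻¹ = c * v) (hcy : y * c = c * y) (k : ℕ) :
    y ^ k * v * (y ^ k)⁻¹ = c ^ k * v := by
  induction k with
  | zero => simp
  | succ k ih =>
    have hck : y * c ^ k = c ^ k * y := by
      have : Commute y c := hcy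
      exact (this.pow_right k)
    calc y ^ (k + 1) * v * (y ^ (k + 1))⁻¹ = y * (y ^ k * v * (y ^ k)⁻¹) * y⁻¹ := by
          rw [pow_succ']
          group
      _ = y * (c ^ k * v) * y⁻¹ := by rw [ih]
      _ = (y * c ^ k) * v * y⁻¹ := by group
      _ = c ^ k * (y * v * y⁻¹) := by rw [hck]; group
      _ = c ^ (k + 1) * v := by rw [hc, pow_succ]; group

theorem eq_one_of_coprime_conj {p : ℕ} (y v c : G) (n : ℕ) (hn : n.Coprime p) (hy : y ^ n = 1)
    (hc : y * v * y⁻¹ = c * v) (hcy : y * c = c * y) (j : ℕ) (hcp : c ^ (p ^ j) = 1) : c = 1 := by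
  have h1 := conj_pow_of_comm y v c hc hcy n
  rw [hy] at h1
  have h2 : c ^ n = 1 := by
    have : v = c ^ n * v := by simpa using h1
    have h3 : c ^ n * v = 1 * v := by rw [one_mul]; exact this.symm
    exact mul_right_cancel h3
  have hcop : Nat.Coprime n (p ^ j) := Nat.Coprime.pow_right j hn
  exact (pow_eq_one_iff_of_coprime hcop).mp ⟨h2, hcp⟩

variable [Finite G]

theorem min_normal_pgroup_central {p : ℕ} [hp : Fact p.Prime] (W : Subgroup G) [hWn : W.Normal]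
    (hWp : IsPGroup p W) (hWne : W ≠ ⊥)
    (hmin : ∀ M : Subgroup G, M.Normal → M ≤ W → M = ⊥ ∨ M = W)
    (L : Subgroup G) [hLn : L.Normal] (hLp : IsPGroup p L) :
    L ≤ Subgroup.centralizer (W : Set G) := by
  set X := W ⊔ L with hX
  have hXp : IsPGroup p X := hWp.to_sup_of_normal_right hLp
  haveI hXnil : Group.IsNilpotent X := hXp.isNilpotent
  have hWX : W ≤ X := le_sup_left
  have hLX : L ≤ X := le_sup_right
  haveI hsn : (W.subgroupOf X).Normal := hWn.subgroupOf X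
  have hsne : W.subgroupOf X ≠ ⊥ := by
    intro h
    apply hWne
    rw [eq_bot_iff]
    intro w hw
    have : (⟨w, hWX hw⟩ : X) ∈ W.subgroupOf X := Subgroup.mem_subgroupOf.mpr hw
    rw [h, Subgroup.mem_bot] at this
    rw [Subgroup.mem_bot]
    exact congrArg Subtype.val this
  have h1 := Cfsg.Agent.Lib.Helper1.normal_inf_center_ne_bot (W.subgroupOf X) hsne
  obtain ⟨z, hz1⟩ := (Subgroup.ne_bot_iff_exists_ne_one).mp h1
  have hz' : (z : ↥X) ∈ W.subgroupOf X ⊓ Subgroup.center ↥X := z.2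
  set M := W ⊓ Subgroup.centralizer (L : Set G) with hM
  haveI hCn : (Subgroup.centralizer (L : Set G)).Normal := Subgroup.normal_centralizer
  have hMn : M.Normal := inferInstance
  have hMne : M ≠ ⊥ := by
    intro h
    apply hz1
    have hzM : ((z : ↥X) : G) ∈ M := by
      refine ⟨Subgroup.mem_subgroupOf.mp hz'.1, ?_⟩
      show ((z : ↥X) : G) ∈ Subgroup.centralizer (L : Set G)
      rw [Subgroup.mem_centralizer_iff]
      intro l hl
      have := Subgroup.mem_center_iff.mp hz'.2 ⟨l, hLX hl⟩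
      exact congrArg Subtype.val this
    rw [h, Subgroup.mem_bot] at hzM
    apply Subtype.ext
    apply Subtype.ext
    exact hzM
  rcases hmin M hMn inf_le_left with h | h
  · exact absurd h hMne
  · intro l hl
    rw [Subgroup.mem_centralizer_iff]
    intro w hw
    have hwM : w ∈ M := by rw [h]; exact hw
    exact (Subgroup.mem_centralizer_iff.mp hwM.2 l hl).symm

theorem min_normal_pgroup_comm {p : ℕ} [hp : Fact p.Prime] (W : Subgroup G) [hWn : W.Normal]
    (hWp : IsPGroup p W) (hWne : W ≠ ⊥)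
    (hmin : ∀ M : Subgroup G, M.Normal → M ≤ W → M = ⊥ ∨ M = W) :
    IsMulCommutative W := by
  have h := min_normal_pgroup_central W hWp hWne hmin W hWp
  refine ⟨⟨?_⟩⟩
  rintro ⟨a, ha⟩ ⟨b, hb⟩
  apply Subtype.ext
  show a * b = b * a
  exact (Subgroup.mem_centralizer_iff.mp (h hb) a ha)

theorem min_normal_pgroup_exp {p : ℕ} [hp : Fact p.Prime] (W : Subgroup G) [hWn : W.Normal]
    (hWp : IsPGroup p W) (hWne : W ≠ ⊥)
    (hmin : ∀ M : Subgroup G, M.Normal → M ≤ W → M = ⊥ ∨ M = W) :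
    ∀ x ∈ W, x ^ p = 1 := by
  have hc := min_normal_pgroup_central W hWp hWne hmin W hWp
  have hcomm : ∀ a ∈ W, ∀ b ∈ W, Commute a b := fun a ha b hb =>
    (Subgroup.mem_centralizer_iff.mp (hc hb) a ha)
  let Ω : Subgroup G :=
    { carrier := {x | x ∈ W ∧ x ^ p = 1}
      one_mem' := ⟨W.one_mem, one_pow p⟩
      mul_mem' := by
        rintro a b ⟨ha, ha'⟩ ⟨hb, hb'⟩
        refine ⟨W.mul_mem ha hb, ?_⟩
        rw [(hcomm a ha b hb).mul_pow, ha', hb', one_mul]
      inv_mem' := by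
        rintro a ⟨ha, ha'⟩
        exact ⟨W.inv_mem ha, by rw [inv_pow, ha', inv_one]⟩ }
  have hΩn : Ω.Normal := by
    constructor
    rintro x ⟨hx, hx'⟩ g
    refine ⟨hWn.conj_mem x hx g, ?_⟩
    rw [conj_pow, hx']; group
  have hΩle : Ω ≤ W := fun x hx => hx.1
  haveI : Nontrivial W := (Subgroup.nontrivial_iff_ne_bot W).mpr hWne
  have hpd : p ∣ Nat.card W := by
    obtain ⟨n, hn0, hn⟩ := hWp.nontrivial_iff_card.mp inferInstance
    rw [hn]
    exact dvd_pow_self _ (ne_of_gt hn0)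
  obtain ⟨x, hx⟩ := exists_prime_orderOf_dvd_card' (G := W) p hpd
  have hΩne : Ω ≠ ⊥ := by
    intro h
    have hxΩ : (x : G) ∈ Ω := by
      refine ⟨x.2, ?_⟩
      have := pow_orderOf_eq_one x
      rw [hx] at this
      exact_mod_cast congrArg Subtype.val this
    rw [h, Subgroup.mem_bot] at hxΩ
    have : x = 1 := Subtype.ext hxΩ
    rw [this, orderOf_one] at hx
    exact hp.out.one_lt.ne hx
  rcases hmin Ω hΩn hΩle with h | h
  · exact absurd h hΩne
  · intro y hy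
    rw [← h] at hy
    exact hy.2

theorem exists_chief_section (V : Subgroup G) [hVn : V.Normal] (y : G)
    (hy : y ∉ Subgroup.centralizer (V : Set G)) :
    ∃ V₁ V₂ : Subgroup G, V₁.Normal ∧ V₂.Normal ∧ V₂ ≤ V₁ ∧ V₁ ≤ V ∧ V₂ ≠ V₁ ∧
      y ∈ Subgroup.centralizer (V₂ : Set G) ∧ y ∉ Subgroup.centralizer (V₁ : Set G) ∧
      ∀ M : Subgroup G, M.Normal → V₂ ≤ M → M ≤ V₁ → M = V₂ ∨ M = V₁ := by
  let T := {N : Subgroup G // N.Normal ∧ N ≤ V ∧ y ∉ Subgroup.centralizer (N : Set G)}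
  haveI : Nonempty T := ⟨⟨V, hVn, le_rfl, hy⟩⟩
  obtain ⟨⟨V₁, hV₁n, hV₁V, hV₁y⟩, hV₁min⟩ :=
    Finite.exists_min (fun N : T => Nat.card (N.1 : Subgroup G))
  let T' := {N : Subgroup G // N.Normal ∧ N < V₁}
  have hV₁ne : V₁ ≠ ⊥ := by
    rintro rfl
    apply hV₁y
    rw [Subgroup.mem_centralizer_iff]
    intro v hv
    rw [SetLike.mem_coe, Subgroup.mem_bot] at hv
    rw [hv, one_mul, mul_one]
  haveI : Nonempty T' := ⟨⟨⊥, inferInstance, bot_lt_iff_ne_bot.mpr hV₁ne⟩⟩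
  obtain ⟨⟨V₂, hV₂n, hV₂lt⟩, hV₂max⟩ :=
    Finite.exists_max (fun N : T' => Nat.card (N.1 : Subgroup G))
  refine ⟨V₁, V₂, hV₁n, hV₂n, hV₂lt.le, hV₁V, hV₂lt.ne, ?_, hV₁y, ?_⟩
  · by_contra hcon
    have h1 := hV₁min ⟨V₂, hV₂n, hV₂lt.le.trans hV₁V, hcon⟩
    have h2 := Cfsg.Agent.Lib.Helper1.TNPC.card_lt_of_lt' hV₂lt
    exact absurd h1 (not_le.mpr h2)
  · intro M hMn hV₂M hMV₁
    by_cases hM : M = V₁
    · exact Or.inr hM
    · left
      have hlt : M < V₁ := lt_of_le_of_ne hMV₁ hM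
      have h1 := hV₂max ⟨M, hMn, hlt⟩
      exact (Subgroup.eq_of_le_of_card_ge hV₂M h1).symm

end Aux

end Cfsg.Agent.Lib.Helper1.GNPC
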