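import Mathlib
import Cfsg.Agent.Lib.Helper1.GNPC.Cfg
import Cfsg.Agent.Lib.Helper1.GNPC.Helpers

set_option autoImplicit false

namespace Cfsg.Agent.Lib.Helper1.GNPC

open Cfsg Cfsg.Agent.S5306 Cfsg.Agent.Lib.Helper1.TNPC

open scoped Pointwise commutatorElement

universe u

section Stable

variable {G : Type u} [Group G] [Finite G] {p : ℕ} [hp : Fact p.Prime]
  {P : Sylow p G} {H : Subgroup G} [hHn : H.Normal] {Kb : Subgroup (G ⧸ H)}

theorem FinalCfg.pow_card_mem (c : FinalCfg p G P H Kb) (x : G)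
    (hx : x ∈ Kb.comap (QuotientGroup.mk' H)) : x ^ Nat.card Kb ∈ H := by
  rw [← QuotientGroup.eq_one_iff]
  have h1 : (⟨QuotientGroup.mk' H x, hx⟩ : Kb) ^ Nat.card Kb = 1 := pow_card_eq_one'
  have h2 := congrArg Subtype.val h1
  rw [Subgroup.coe_pow] at h2
  exact h2

theorem FinalCfg.exists_pprime_elt (c : FinalCfg p G P H Kb) :
    ∃ y ∈ Kb.comap (QuotientGroup.mk' H), y ∉ H ∧ (orderOf y).Coprime p := by
  have hnle : ¬ Kb.comap (QuotientGroup.mk' H) ≤ H := by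
    intro h
    exact c.kne (le_antisymm h c.k.H_le)
  obtain ⟨x₀, hx₀K, hx₀H⟩ := SetLike.not_le_iff_exists.mp hnle
  have hx0 : orderOf x₀ ≠ 0 := (orderOf_pos _).ne'
  obtain ⟨e, m, hm, hem⟩ := Nat.exists_eq_pow_mul_and_not_dvd hx0 p hp.out.ne_one
  refine ⟨x₀ ^ (p ^ e), Subgroup.pow_mem _ hx₀K _, ?_, ?_⟩
  · intro hy
    apply hx₀H
    have h1 : x₀ ^ Nat.card Kb ∈ H := c.pow_card_mem x₀ hx₀K
    have hcop : Nat.Coprime (p ^ e) (Nat.card Kb) := Nat.Coprime.pow_left e c.k.hcop.symm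
    rw [← QuotientGroup.eq_one_iff] at hy h1 ⊢
    rw [QuotientGroup.mk_pow] at hy h1
    exact (pow_eq_one_iff_of_coprime hcop).mp ⟨hy, h1⟩
  · have h1 : orderOf (x₀ ^ (p ^ e)) = m := by
      rw [orderOf_pow_of_dvd (pow_ne_zero e hp.out.ne_zero) ⟨m, hem⟩, hem,
        Nat.mul_div_cancel_left _ (pow_pos hp.out.pos e)]
    rw [h1]
    exact (hp.out.coprime_iff_not_dvd.mpr hm).symm

theorem quad_elementwise {V : Subgroup G} {a : G}
    (hq : ⁅⁅V, Subgroup.zpowers a⁆, Subgroup.zpowers a⁆ = ⊥) (v : G) (hv : v ∈ V) :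
    Commute a (a * v * a⁻¹ * v⁻¹) := by
  have h1 : ⁅v, a⁆ ∈ ⁅V, Subgroup.zpowers a⁆ :=
    Subgroup.commutator_mem_commutator hv (Subgroup.mem_zpowers a)
  have h2 : ⁅⁅v, a⁆, a⁆ ∈ ⁅⁅V, Subgroup.zpowers a⁆, Subgroup.zpowers a⁆ :=
    Subgroup.commutator_mem_commutator h1 (Subgroup.mem_zpowers a)
  rw [hq, Subgroup.mem_bot, commutatorElement_eq_one_iff_mul_comm] at h2
  have h3 : Commute a ⁅v, a⁆ := h2.symm
  have e : a * v * a⁻¹ * v⁻¹ = (⁅v, a⁆)⁻¹ := by
    rw [commutatorElement_def]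
    group
  rw [e]
  exact h3.inv_right

theorem FinalCfg.quad_mem (c : FinalCfg p G P H Kb) (hp2 : p ≠ 2) (V : Subgroup G) [V.Normal]
    (hV : IsPGroup p V)
    (hCK : Subgroup.centralizer (V : Set G) ⊓ Kb.comap (QuotientGroup.mk' H) ≤ H)
    (a : G) (hq : ⁅⁅V, Subgroup.zpowers a⁆, Subgroup.zpowers a⁆ = ⊥)
    (x : G) (hxK : x ∈ Kb.comap (QuotientGroup.mk' H)) : a * x * a⁻¹ * x⁻¹ ∈ H := by
  set K := Kb.comap (QuotientGroup.mk' H) with hK
  haveI hKn : K.Normal := c.k.normal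
  obtain ⟨y, hyK, hyH, hyo⟩ := c.exists_pprime_elt
  have hyC : y ∉ Subgroup.centralizer (V : Set G) := fun h => hyH (hCK ⟨h, hyK⟩)
  obtain ⟨V₁, V₂, hV₁n, hV₂n, h21, h1V, hne, hyV₂, hyV₁, hchief⟩ := exists_chief_section V y hyC
  haveI := hV₁n
  haveI := hV₂n
  have hsurj := QuotientGroup.mk'_surjective V₂
  set Wb := V₁.map (QuotientGroup.mk' V₂) with hWb
  haveI hWbn : Wb.Normal := Subgroup.Normal.map hV₁n _ hsurj
  have hWbp : IsPGroup p Wb := (hV.to_le h1V).map _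
  have hWbne : Wb ≠ ⊥ := by
    intro h
    apply hne
    apply le_antisymm h21
    intro v hv
    have : QuotientGroup.mk' V₂ v ∈ Wb := ⟨v, hv, rfl⟩
    rw [h, Subgroup.mem_bot] at this
    exact (QuotientGroup.eq_one_iff v).mp this
  have hker : (QuotientGroup.mk' V₂).ker = V₂ := QuotientGroup.ker_mk' V₂
  have hWbmin : ∀ M : Subgroup (G ⧸ V₂), M.Normal → M ≤ Wb → M = ⊥ ∨ M = Wb := by
    intro M hMn hMW
    haveI := hMn
    have h1 : (M.comap (QuotientGroup.mk' V₂)).Normal := inferInstance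
    have h2 : V₂ ≤ M.comap (QuotientGroup.mk' V₂) := by
      intro v hv
      rw [Subgroup.mem_comap]
      have : QuotientGroup.mk' V₂ v = 1 := (QuotientGroup.eq_one_iff v).mpr hv
      rw [this]
      exact one_mem _
    have h3 : M.comap (QuotientGroup.mk' V₂) ≤ V₁ := by
      intro g hg
      obtain ⟨v, hv, hvg⟩ := hMW (Subgroup.mem_comap.mp hg)
      have h4 : v⁻¹ * g ∈ V₂ := by
        rw [← QuotientGroup.eq]
        exact hvg
      have h5 : g = v * (v⁻¹ * g) := by group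
      rw [h5]
      exact mul_mem hv (h21 h4)
    rcases hchief _ h1 h2 h3 with h | h
    · left
      rw [← Subgroup.map_comap_eq_self_of_surjective hsurj M, h, eq_bot_iff]
      rintro _ ⟨v, hv, rfl⟩
      rw [Subgroup.mem_bot]
      exact (QuotientGroup.eq_one_iff v).mpr hv
    · right
      rw [← Subgroup.map_comap_eq_self_of_surjective hsurj M, h]
  haveI hWbc : IsMulCommutative Wb := min_normal_pgroup_comm Wb hWbp hWbne hWbmin
  have hWbexp := min_normal_pgroup_exp Wb hWbp hWbne hWbmin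
  set D := (Subgroup.centralizer (Wb : Set (G ⧸ V₂))).comap (QuotientGroup.mk' V₂) with hD
  haveI hCn : (Subgroup.centralizer (Wb : Set (G ⧸ V₂))).Normal := Subgroup.normal_centralizer
  have hDn : D.Normal := inferInstance
  have hHD : H ≤ D := by
    haveI : (H.map (QuotientGroup.mk' V₂)).Normal := Subgroup.Normal.map hHn _ hsurj
    have h1 := min_normal_pgroup_central Wb hWbp hWbne hWbmin (H.map (QuotientGroup.mk' V₂))
      (c.hHp.map _)
    intro h hh
    rw [hD, Subgroup.mem_comap]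
    exact h1 ⟨h, hh, rfl⟩
  have hyD : y ∉ D := by
    intro hyD
    apply hyV₁
    rw [Subgroup.mem_centralizer_iff]
    intro v hv
    have hv' : v ∈ V₁ := hv
    have h1 : QuotientGroup.mk' V₂ y ∈ Subgroup.centralizer (Wb : Set (G ⧸ V₂)) := hyD
    have h2 := Subgroup.mem_centralizer_iff.mp h1 (QuotientGroup.mk' V₂ v) ⟨v, hv', rfl⟩
    have h3 : y * v * y⁻¹ * v⁻¹ ∈ V₂ := by
      rw [← QuotientGroup.eq_one_iff]
      have e : ((y * v * y⁻¹ * v⁻¹ : G) : G ⧸ V₂) = (QuotientGroup.mk' V₂ y) *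
          (QuotientGroup.mk' V₂ v) * (QuotientGroup.mk' V₂ y)⁻¹ * (QuotientGroup.mk' V₂ v)⁻¹ := by
        simp
      rw [e, ← h2]
      group
    set c₀ := y * v * y⁻¹ * v⁻¹ with hc₀
    have hcv : y * v * y⁻¹ = c₀ * v := by rw [hc₀]; group
    have hcy : y * c₀ = c₀ * y := (Subgroup.mem_centralizer_iff.mp hyV₂ c₀ h3).symm
    obtain ⟨j, hj⟩ := (hV.to_le (h21.trans h1V)) ⟨c₀, h3⟩
    have hj' : c₀ ^ (p ^ j) = 1 := by
      have := congrArg Subtype.val hj
      rwa [Subgroup.coe_pow] at this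
    have hc1 : c₀ = 1 := eq_one_of_coprime_conj y v c₀ (orderOf y) hyo (pow_orderOf_eq_one y)
      hcv hcy j hj'
    rw [hc1, one_mul] at hcv
    calc v * y = (y * v * y⁻¹) * y := by rw [hcv]
      _ = y * v := by group
  have hDK : D ⊓ K = H := by
    apply c.f2 (D ⊓ K) (le_inf hHD c.k.H_le) inf_le_right
    · have : (D ⊓ K).Normal := inferInstance
      rw [Subgroup.normalizer_eq_top_iff.mpr this]
      exact le_top
    · intro h
      apply hyD
      have : y ∈ D ⊓ K := by rw [h]; exact hyK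
      exact this.1
  have hmk : ∀ g : G, g ∈ D → QuotientGroup.mk' V₂ g ∈ Subgroup.centralizer (Wb : Set (G ⧸ V₂)) :=
    fun g hg => hg
  have hquad : ∀ w ∈ Wb, Commute (QuotientGroup.mk' V₂ a)
      (QuotientGroup.mk' V₂ a * w * (QuotientGroup.mk' V₂ a)⁻¹ * w⁻¹) := by
    rintro _ ⟨v, hv, rfl⟩
    have h1 := quad_elementwise hq v (h1V hv)
    have h2 := h1.map (QuotientGroup.mk' V₂)
    simpa using h2
  have hn : 0 < Nat.card Kb := Nat.card_pos
  have hx1 : a * x * a⁻¹ ∈ K := hKn.conj_mem x hxK a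
  have hx2 : a * (a * x * a⁻¹) * a⁻¹ ∈ K := hKn.conj_mem _ hx1 a
  have hxn : (QuotientGroup.mk' V₂ x) ^ Nat.card Kb ∈
      Subgroup.centralizer (Wb : Set (G ⧸ V₂)) := by
    rw [← map_pow]
    exact hmk _ (hHD (c.pow_card_mem x hxK))
  have h01 := hmk _ (hHD (c.K_comm _ _ hxK hx1))
  have h02 := hmk _ (hHD (c.K_comm _ _ hxK hx2))
  have h12 := hmk _ (hHD (c.K_comm _ _ hx1 hx2))
  simp only [map_mul, map_inv] at h01 h02 h12
  have hres := quad_centralizes Wb hp.out hp2 hWbexp (QuotientGroup.mk' V₂ a)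
    (QuotientGroup.mk' V₂ x) hquad hn c.k.hcop hxn h01 h02 h12
  have hresD : a * x * a⁻¹ * x⁻¹ ∈ D := by
    rw [hD, Subgroup.mem_comap]
    simpa using hres
  have hresK : a * x * a⁻¹ * x⁻¹ ∈ K := K.mul_mem hx1 (K.inv_mem hxK)
  rw [← hDK]
  exact ⟨hresD, hresK⟩

theorem FinalCfg.stable (c : FinalCfg p G P H Kb) (hp2 : p ≠ 2) (V : Subgroup G) [V.Normal]
    (hV : IsPGroup p V) (a : G) (ha : a ∈ (P : Subgroup G))
    (hq : ⁅⁅V, Subgroup.zpowers a⁆, Subgroup.zpowers a⁆ = ⊥) :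
    (QuotientGroup.mk a : G ⧸ Subgroup.centralizer (V : Set G)) ∈
      Cfsg.pCore p (G ⧸ Subgroup.centralizer (V : Set G)) := by
  set C := Subgroup.centralizer (V : Set G) with hC
  set K := Kb.comap (QuotientGroup.mk' H) with hK
  haveI hKn : K.Normal := c.k.normal
  by_cases hcase : K ≤ C ⊔ H
  · have hGp : IsPGroup p (G ⧸ C) := by
      intro xb
      obtain ⟨g, rfl⟩ := QuotientGroup.mk_surjective xb
      obtain ⟨x, hx, u, hu, rfl⟩ := c.k.decomp g
      have hx' := hcase hx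
      rw [← SetLike.mem_coe, Subgroup.mul_normal] at hx'
      obtain ⟨c₀, hc₀, h, hh, rfl⟩ := hx'
      obtain ⟨j, hj⟩ := P.isPGroup' ⟨h * u, mul_mem (c.hHP hh) hu⟩
      refine ⟨j, ?_⟩
      have e : (QuotientGroup.mk (c₀ * h * u) : G ⧸ C) = QuotientGroup.mk (h * u) := by
        rw [mul_assoc, QuotientGroup.mk_mul, (QuotientGroup.eq_one_iff c₀).mpr hc₀, one_mul]
      rw [e, ← QuotientGroup.mk_pow]
      have h1 := congrArg Subtype.val hj
      rw [Subgroup.coe_pow] at h1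
      have h2 : (h * u) ^ (p ^ j) = 1 := h1
      rw [h2]
      rfl
    have htop : Cfsg.pCore p (G ⧸ C) = ⊤ := by
      rw [eq_top_iff]
      apply Cfsg.Agent.Lib.Helper1.le_pCore Subgroup.normal_top
      exact IsPGroup.of_equiv hGp Subgroup.topEquiv.symm
    rw [htop]
    trivial
  · have hK₁ : (C ⊔ H) ⊓ K = H := by
      apply c.f2 _ (le_inf le_sup_right c.k.H_le) inf_le_right
      · have : ((C ⊔ H) ⊓ K).Normal := inferInstance
        rw [Subgroup.normalizer_eq_top_iff.mpr this]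
        exact le_top
      · intro h
        apply hcase
        have h' : K ≤ (C ⊔ H) ⊓ K := le_of_eq h.symm
        exact h'.trans inf_le_left
    have hCK : C ⊓ K ≤ H := by
      intro g hg
      rw [← hK₁]
      exact ⟨(le_sup_left : C ≤ C ⊔ H) hg.1, hg.2⟩
    have haH : a ∈ H := by
      by_contra haH
      obtain ⟨x, hxK, hxH⟩ := c.exists_noncentral a ha haH
      exact hxH (c.quad_mem hp2 V hV hCK a hq x hxK)
    have hmapn : (H.map (QuotientGroup.mk' C)).Normal :=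
      Subgroup.Normal.map hHn _ (QuotientGroup.mk'_surjective C)
    have hle := Cfsg.Agent.Lib.Helper1.le_pCore hmapn (c.hHp.map (QuotientGroup.mk' C))
    exact hle ⟨a, haH, rfl⟩

end Stable

end Cfsg.Agent.Lib.Helper1.GNPC
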