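import Mathlib
import Cfsg.Agent.Lib.Helper1.GNPC.Stable
import Cfsg.Agent.Lib.Helper9.ZJ6

set_option autoImplicit false

namespace Cfsg.Agent.Lib.Helper1.GNPC

open Cfsg Cfsg.Agent.S5306 Cfsg.Agent.Lib.Helper1.TNPC Cfsg.Agent.Lib.Helper9

universe u

section ZJFun

variable {G : Type*} [Group G] {G' : Type*} [Group G']

theorem comm_of_map_injOn (f : G →* G') {S A : Subgroup G} (hf : Set.InjOn f (S : Set G))
    (hAS : A ≤ S) (h : IsMulCommutative (A.map f)) : IsMulCommutative A := by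
  refine ⟨⟨?_⟩⟩
  rintro ⟨a, ha⟩ ⟨b, hb⟩
  apply Subtype.ext
  show a * b = b * a
  apply hf (S.mul_mem (hAS ha) (hAS hb)) (S.mul_mem (hAS hb) (hAS ha))
  rw [map_mul, map_mul]
  exact setLike_mul_comm (s := A.map f) ⟨a, ha, rfl⟩ ⟨b, hb, rfl⟩

theorem famQ_comm_map (f : G →* G') {S : Subgroup G} (hf : Set.InjOn f (S : Set G))
    {A : Subgroup G} (hA : A ∈ famQ (fun A : Subgroup G => IsMulCommutative A) S) :
    A.map f ∈ famQ (fun A : Subgroup G' => IsMulCommutative A) (S.map f) := by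
  obtain ⟨hAS, hc, hmax⟩ := hA
  haveI : IsMulCommutative A := hc
  refine ⟨Subgroup.map_mono hAS, inferInstance, ?_⟩
  intro B hB hBc
  have h1 : (B.comap f ⊓ S).map f = B := comap_inf_map f hB
  have h2 : IsMulCommutative ↥(B.comap f ⊓ S) :=
    comm_of_map_injOn f hf inf_le_right (by rw [h1]; exact hBc)
  have h3 := hmax _ inf_le_right h2
  rw [card_map_of_injOn f A (hf.mono hAS)]
  calc Nat.card B = Nat.card ((B.comap f ⊓ S).map f) := by rw [h1]
    _ = Nat.card ↥(B.comap f ⊓ S) := card_map_of_injOn f _ (hf.mono inf_le_right)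
    _ ≤ Nat.card A := h3

theorem exists_of_famQ_comm_map (f : G →* G') {S : Subgroup G} (hf : Set.InjOn f (S : Set G))
    {B : Subgroup G'} (hB : B ∈ famQ (fun A : Subgroup G' => IsMulCommutative A) (S.map f)) :
    ∃ A ∈ famQ (fun A : Subgroup G => IsMulCommutative A) S, A.map f = B := by
  obtain ⟨hBS, hc, hmax⟩ := hB
  have h1 : (B.comap f ⊓ S).map f = B := comap_inf_map f hBS
  refine ⟨B.comap f ⊓ S, ⟨inf_le_right, ?_, ?_⟩, h1⟩
  · exact comm_of_map_injOn f hf inf_le_right (by rw [h1]; exact hc)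
  · intro C hCS hCc
    haveI : IsMulCommutative C := hCc
    have h2 := hmax (C.map f) (Subgroup.map_mono hCS) inferInstance
    rw [card_map_of_injOn f C (hf.mono hCS)] at h2
    calc Nat.card C ≤ Nat.card B := h2
      _ = Nat.card ((B.comap f ⊓ S).map f) := by rw [h1]
      _ = Nat.card ↥(B.comap f ⊓ S) := card_map_of_injOn f _ (hf.mono inf_le_right)

theorem zfam_comm_map [Finite G] (f : G →* G') {S : Subgroup G} (hf : Set.InjOn f (S : Set G)) :
    zfam (fun A : Subgroup G' => IsMulCommutative A) (S.map f) =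
      (zfam (fun A : Subgroup G => IsMulCommutative A) S).map f := by
  apply le_antisymm
  · intro x hx
    obtain ⟨A₀, hA₀⟩ := famQ_nonempty (fun A : Subgroup G => IsMulCommutative A)
      isMulCommutative_bot' S
    unfold zfam at hx ⊢
    rw [Subgroup.mem_sInf] at hx
    obtain ⟨y, hy, rfl⟩ := hx _ (famQ_comm_map f hf hA₀)
    refine ⟨y, ?_, rfl⟩
    rw [SetLike.mem_coe, Subgroup.mem_sInf]
    intro A hA
    obtain ⟨y', hy', hyy⟩ := hx _ (famQ_comm_map f hf hA)
    have : y' = y := hf (hA.1 hy') (hA₀.1 hy) hyy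
    rw [← this]
    exact hy'
  · rintro _ ⟨y, hy, rfl⟩
    unfold zfam at hy ⊢
    rw [SetLike.mem_coe, Subgroup.mem_sInf] at hy
    rw [Subgroup.mem_sInf]
    intro B hB
    obtain ⟨A, hA, rfl⟩ := exists_of_famQ_comm_map f hf hB
    exact ⟨y, hy A hA, rfl⟩

theorem ctA_map [Finite G] [Finite G'] (f : G →* G') {S : Subgroup G}
    (hf : Set.InjOn f (S : Set G)) :
    Cfsg.centerThompsonAOf (S.map f) = (Cfsg.centerThompsonAOf S).map f := by
  rw [← zfam_eq_centerThompsonAOf, ← zfam_eq_centerThompsonAOf]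
  exact zfam_comm_map f hf

theorem ctA_le [Finite G] (S : Subgroup G) : Cfsg.centerThompsonAOf S ≤ S := by
  rw [← zfam_eq_centerThompsonAOf]
  obtain ⟨A₀, hA₀⟩ := famQ_nonempty (fun A : Subgroup G => IsMulCommutative A)
    isMulCommutative_bot' S
  exact (zfam_le_of_mem _ hA₀).trans hA₀.1

theorem center_le_ctA [Finite G] (S : Subgroup G) :
    S ⊓ Subgroup.centralizer (S : Set G) ≤ Cfsg.centerThompsonAOf S := by
  rw [← zfam_eq_centerThompsonAOf]
  intro x hx
  unfold zfam
  rw [Subgroup.mem_sInf]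
  intro A hA
  have hAc := hA.2.1
  have hcomm : ∀ a ∈ ((A : Set G) ∪ {x}), ∀ b ∈ ((A : Set G) ∪ {x}), a * b = b * a := by
    intro a ha b hb
    rcases ha with ha | ha <;> rcases hb with hb | hb
    · exact setLike_mul_comm ha hb
    · rw [Set.mem_singleton_iff] at hb; subst hb
      exact (Subgroup.mem_centralizer_iff.mp hx.2 a (hA.1 ha))
    · rw [Set.mem_singleton_iff] at ha; subst ha
      exact (Subgroup.mem_centralizer_iff.mp hx.2 b (hA.1 hb)).symm
    · rw [Set.mem_singleton_iff] at ha hb; subst ha; subst hb; rfl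
  have hc : IsMulCommutative (Subgroup.closure ((A : Set G) ∪ {x})) :=
    Subgroup.isMulCommutative_closure hcomm
  have hleS : Subgroup.closure ((A : Set G) ∪ {x}) ≤ S := by
    rw [Subgroup.closure_le]
    rintro y (hy | hy)
    · exact hA.1 hy
    · rw [Set.mem_singleton_iff] at hy; subst hy; exact hx.1
  have hcard := hA.2.2 _ hleS hc
  have hAle : A ≤ Subgroup.closure ((A : Set G) ∪ {x}) := by
    intro a ha; exact Subgroup.subset_closure (Or.inl ha)
  have heq := Subgroup.eq_of_le_of_card_ge hAle hcard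
  rw [heq]
  exact Subgroup.subset_closure (Or.inr rfl)

theorem ctA_ne_bot [Finite G] {p : ℕ} [Fact p.Prime] {S : Subgroup G} (hS : IsPGroup p S)
    (hne : S ≠ ⊥) : Cfsg.centerThompsonAOf S ≠ ⊥ :=
  ne_bot_of_le_ne_bot (Z_ne_bot hS hne) (center_le_ctA S)

theorem normalizer_le_normalizer_ctA [Finite G] (S : Subgroup G) :
    Subgroup.normalizer (S : Set G) ≤ Subgroup.normalizer (Cfsg.centerThompsonAOf S : Set G) := by
  rw [← zfam_eq_centerThompsonAOf]
  apply normalizer_le_normalizer_zfam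
  intro φ A hA
  have := hA
  exact (inferInstance : IsMulCommutative (A.map φ.toMonoidHom))

end ZJFun

end Cfsg.Agent.Lib.Helper1.GNPC
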