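import Mathlib
import Cfsg.Agent.Lib.Helper1.GNPC.ZJFun

set_option autoImplicit false

namespace Cfsg.Agent.Lib.Helper1.GNPC

open Cfsg Cfsg.Agent.S5306 Cfsg.Agent.Lib.Helper1.TNPC Cfsg.Agent.Lib.Helper9

universe u

section ZJMain

variable {p : ℕ} [hp : Fact p.Prime]

def zjSpec (p : ℕ) [hp : Fact p.Prime] : HypSpec.{u} p where
  Hy G _ R := HasNormalPComplement p ↥(Subgroup.normalizer (Cfsg.centerThompsonAOf R : Set G))
  transfer := by
    intro G G' _ _ _ _ f hf R h
    apply npc_of_map_injective f hf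
    refine npc_of_le ?_ h
    rw [ctA_map f hf.injOn]
    exact Subgroup.le_normalizer_map f
  quotient := by
    intro G _ _ T _ hT P hP h
    have hinj := injOn_mk_of_coprime T hT P hP
    have e : Subgroup.normalizer
        ((Cfsg.centerThompsonAOf (P.map (QuotientGroup.mk' T)) : Subgroup (G ⧸ T)) : Set (G ⧸ T)) =
        (Subgroup.normalizer (Cfsg.centerThompsonAOf P : Set G)).map (QuotientGroup.mk' T) := by
      rw [ctA_map _ hinj]
      exact (Cfsg.Agent.Lib.Helper10.map_normalizer_eq_of_coprime p T hT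
        (Cfsg.centerThompsonAOf P) (hP.to_le (ctA_le P))).symm
    rw [e]
    exact npc_map _ _ h
  of_local := by
    intro G _ _ R hR hne h
    exact h (Cfsg.centerThompsonAOf R) (ctA_le R) (ctA_ne_bot hR hne)
      (normalizer_le_normalizer_ctA R)
  top := by
    intro G _ _ P hPn h
    have h1 : Subgroup.normalizer (Cfsg.centerThompsonAOf P : Set G) = ⊤ := by
      rw [eq_top_iff, ← Subgroup.normalizer_eq_top_iff.mpr hPn]
      exact normalizer_le_normalizer_ctA P
    exact npc_of_eq_top h1 h

theorem zj_final (hp2 : p ≠ 2) (G : Type u) [Group G] [Finite G] (P : Sylow p G)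
    (H : Subgroup G) [H.Normal] (Kb : Subgroup (G ⧸ H)) (c : FinalCfg p G P H Kb)
    (h : (zjSpec.{u} p).Hy G (P : Subgroup G)) : HasNormalPComplement p G := by
  have hchar : (Cfsg.centerThompsonAOf (P : Subgroup G)).Characteristic := by
    rw [← zfam_eq_centerThompsonAOf]
    refine zfam_characteristic _ P (zjhyp_comm hp2 P) ?_
      (fun V _ hV a ha hq => c.stable hp2 V hV a ha hq)
    rw [c.pCore_eq]
    exact c.cent
  have hn : (Cfsg.centerThompsonAOf (P : Subgroup G)).Normal := inferInstance
  have h1 : Subgroup.normalizer (Cfsg.centerThompsonAOf (P : Subgroup G) : Set G) = ⊤ :=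
    Subgroup.normalizer_eq_top_iff.mpr hn
  exact npc_of_eq_top h1 h

theorem glauberman_thompson_npc (hp2 : p ≠ 2) {G : Type u} [Group G] [Finite G] (P : Sylow p G)
    (h : HasNormalPComplement p
      ↥(Subgroup.normalizer (Cfsg.centerThompsonAOf (P : Subgroup G) : Set G))) :
    HasNormalPComplement p G :=
  generic_npc (zjSpec.{u} p) (fun G _ _ P H _ Kb c h => zj_final hp2 G P H Kb c h) P h

end ZJMain

end Cfsg.Agent.Lib.Helper1.GNPC
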